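import Groth.Agent.CurveGenusMono.Basic
import Groth.Agent.CurveBC.Geometry
import Groth.Agent.GrpSchLib.SmoothRegular
import Mathlib.FieldTheory.IsAlgClosed.AlgebraicClosure

/-!
# The genus does not increase along finite maps of smooth curves over any field
-/

set_option autoImplicit false
set_option linter.style.haveILetI false
set_option linter.unusedSectionVars false
set_option backward.isDefEq.respectTransparency false
set_option backward.isDefEq.respectTransparency.types false

universe u

open CategoryTheory CategoryTheory.Limits AlgebraicGeometry TopologicalSpace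

noncomputable section

namespace Groth.Agent.CurveGenusMono

open Groth.Agent

theorem genus_le_smooth (k : Type u) [Field k] {X Y : Scheme.{u}}
    (p : X ⟶ Spec (CommRingCat.of k)) (q : Y ⟶ Spec (CommRingCat.of k))
    [IsProper p] [Smooth p] [GeometricallyConnected p] [IsProper q] [Smooth q] [GeometricallyConnected q]
    (hX : topologicalKrullDim X = 1) (hY : topologicalKrullDim Y = 1)
    (f : X ⟶ Y) [IsFinite f] (hf : f ≫ q = p) :
    @Curv2.genus k _ Y ⟨q⟩ ≤ @Curv2.genus k _ X ⟨p⟩ := by
  let K := AlgebraicClosure k
  let b : Spec (CommRingCat.of K) ⟶ Spec (CommRingCat.of k) := Spec.map (CommRingCat.ofHom (algebraMap k K))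
  letI : X.Over (Spec (CommRingCat.of k)) := ⟨p⟩
  letI : Y.Over (Spec (CommRingCat.of k)) := ⟨q⟩
  haveI : IsProper (X ↘ Spec (CommRingCat.of k)) := inferInstanceAs (IsProper p)
  haveI : IsProper (Y ↘ Spec (CommRingCat.of k)) := inferInstanceAs (IsProper q)
  haveI : Smooth (X ↘ Spec (CommRingCat.of k)) := inferInstanceAs (Smooth p)
  haveI : Smooth (Y ↘ Spec (CommRingCat.of k)) := inferInstanceAs (Smooth q)
  haveI : GeometricallyConnected (X ↘ Spec (CommRingCat.of k)) := inferInstanceAs (GeometricallyConnected p)
  haveI : GeometricallyConnected (Y ↘ Spec (CommRingCat.of k)) := inferInstanceAs (GeometricallyConnected q)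
  letI : (pullback p b).Over (Spec (CommRingCat.of K)) := ⟨pullback.snd p b⟩
  letI : (pullback q b).Over (Spec (CommRingCat.of K)) := ⟨pullback.snd q b⟩
  have hpX : IsPullback (pullback.fst p b) ((pullback p b) ↘ Spec (CommRingCat.of K)) (X ↘ Spec (CommRingCat.of k)) b :=
    IsPullback.of_hasPullback p b
  have hpY : IsPullback (pullback.fst q b) ((pullback q b) ↘ Spec (CommRingCat.of K)) (Y ↘ Spec (CommRingCat.of k)) b :=
    IsPullback.of_hasPullback q b
  haveI := QuasiCompact.compactSpace_of_compactSpace (X ↘ Spec (CommRingCat.of k))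
  haveI := QuasiCompact.compactSpace_of_compactSpace (Y ↘ Spec (CommRingCat.of k))
  haveI := quasiSeparatedSpace_of_quasiSeparated (X ↘ Spec (CommRingCat.of k))
  haveI := quasiSeparatedSpace_of_quasiSeparated (Y ↘ Spec (CommRingCat.of k))
  haveI := CurveBC.isProper k K (pullback.fst p b) hpX
  haveI := CurveBC.isProper k K (pullback.fst q b) hpY
  haveI := CurveBC.smooth k K (pullback.fst p b) hpX
  haveI := CurveBC.smooth k K (pullback.fst q b) hpY
  haveI : ConnectedSpace ↥(pullback p b) := inferInstance
  haveI : ConnectedSpace ↥(pullback q b) := inferInstance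
  haveI := QuasiCompact.compactSpace_of_compactSpace ((pullback p b) ↘ Spec (CommRingCat.of K))
  haveI := QuasiCompact.compactSpace_of_compactSpace ((pullback q b) ↘ Spec (CommRingCat.of K))
  haveI := CurveCohLib.isIntegral_of_smooth_connected ((pullback p b) ↘ Spec (CommRingCat.of K))
  haveI := CurveCohLib.isIntegral_of_smooth_connected ((pullback q b) ↘ Spec (CommRingCat.of K))
  let f' : pullback p b ⟶ pullback q b :=
    pullback.lift (pullback.fst p b ≫ f) (pullback.snd p b) (by rw [Category.assoc, hf]; exact pullback.condition)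
  have hsq : IsPullback (pullback.fst p b) f' f (pullback.fst q b) := by
    refine IsPullback.of_bot ?_ (pullback.lift_fst _ _ _).symm (IsPullback.of_hasPullback q b)
    rw [pullback.lift_snd, hf]
    exact IsPullback.of_hasPullback p b
  haveI : IsFinite f' := MorphismProperty.of_isPullback hsq ‹IsFinite f›
  rw [← CurveBC.genus_eq k K (pullback.fst q b) hpY, ← CurveBC.genus_eq k K (pullback.fst p b) hpX]
  exact genus_le K (pullback p b) (CurveBC.topologicalKrullDim_eq k K _ hpX hX)
    (fun x => GrpSchLib.isRegularLocalRing_stalk_of_smooth ((pullback p b) ↘ Spec (CommRingCat.of K)) x)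
    (pullback q b) (CurveBC.topologicalKrullDim_eq k K _ hpY hY)
    (fun x => GrpSchLib.isRegularLocalRing_stalk_of_smooth ((pullback q b) ↘ Spec (CommRingCat.of K)) x)
    f' (pullback.lift_snd _ _ _)

end Groth.Agent.CurveGenusMono
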