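import Groth.Agent.CurveFrob.Basic
import Groth.Agent.CurveCohLib.RegularCurve
import Groth.Agent.CurveFinMap.Degree
import Groth.Agent.S11332
import Groth.Agent.Radicial.Stein
import Groth.Agent.H23.RatExtend
import Groth.Agent.HilbCurve.Affine
import Groth.Agent.LinSys.Degree
import Groth.Agent.CycLib.Finite
import Groth.Agent.FibDim.AffineSpaceFibre

/-!
# The genus does not increase along a finite map of regular curves
-/

set_option autoImplicit false
set_option linter.style.haveILetI false
set_option linter.unusedSectionVars false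
set_option backward.isDefEq.respectTransparency false
set_option backward.isDefEq.respectTransparency.types false

universe u

open CategoryTheory CategoryTheory.Limits AlgebraicGeometry TopologicalSpace

noncomputable section

namespace Groth.Agent.CurveGenusMono

open Groth.Agent Groth.Agent.CurveLuroth

/-- A finite map from a curve maps the generic point to the generic point. -/
theorem map_genericPoint_of_finite {X Y : Scheme.{u}} [IsIntegral X] [IsIntegral Y] [CompactSpace Y]
    (hX : topologicalKrullDim X = 1) (hY : topologicalKrullDim Y = 1) (f : X ⟶ Y) [IsFinite f] :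
    f (genericPoint X) = genericPoint Y := by
  refine CurveCohLib.eq_genericPoint_of_not_isClosed hY fun hcl => ?_
  have hall : ∀ x : X, x = genericPoint X := fun x =>
    Radicial.eq_genericPoint_of_finite f x
      (((genericPoint_spec X).specializes (Set.mem_univ x)).map f.continuous |>.mem_closed hcl rfl)
  haveI : Subsingleton X := ⟨fun a b => (hall a).trans (hall b).symm⟩
  have h0 := HilbCurve.topologicalKrullDim_nonpos X
  rw [hX] at h0
  exact absurd h0 (by decide)

theorem residueDegree_pos {X Y : Scheme.{u}} (f : X ⟶ Y) [IsFinite f] (x : X) : 0 < f.residueDegree x := by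
  have h := CycLib.finite_residueFieldMap_of_rd_eq_zero f x (FibDim.rd_eq_zero_of_quasiFinite f x)
  letI := (f.residueFieldMap x).hom.toAlgebra
  haveI : Module.Finite (Y.residueField (f x)) (X.residueField x) := h
  exact Module.finrank_pos

theorem finiteDimensional_functionField {X Y : Scheme.{u}} [IsIntegral X] [IsIntegral Y] (f : X ⟶ Y) [IsFinite f]
    (e : f (genericPoint X) = genericPoint Y) :
    letI := ((Y.presheaf.stalkSpecializes (specializes_of_eq e) ≫ f.stalkMap (genericPoint X)).hom).toAlgebra
    Module.Finite Y.functionField X.functionField := by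
  have hiso : IsIso (Y.presheaf.stalkSpecializes (specializes_of_eq e)) := by
    revert e
    generalize f (genericPoint X) = z
    rintro rfl
    rw [TopCat.Presheaf.stalkSpecializes_refl]
    infer_instance
  let σ : Y.functionField ≃+* Y.presheaf.stalk (f (genericPoint X)) :=
    (asIso (Y.presheaf.stalkSpecializes (specializes_of_eq e))).commRingCatIsoToRingEquiv
  letI := ((Y.presheaf.stalkSpecializes (specializes_of_eq e) ≫ f.stalkMap (genericPoint X)).hom).toAlgebra
  letI := (f.stalkMap (genericPoint X)).hom.toAlgebra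
  refine Module.finite_of_finrank_pos ?_
  rw [Algebra.finrank_eq_of_equiv_equiv σ (RingEquiv.refl X.functionField) (RingHom.ext fun z => rfl),
    LinSys.finrank_stalk_eq_residueDegree f e]
  exact residueDegree_pos f _

/-- Changing the structure map by an automorphism of the field does not change the genus. -/
theorem genus_twist {k : Type u} [Field k] {X : Scheme.{u}} (p : X ⟶ Spec (CommRingCat.of k)) (τ : k ≃+* k) :
    @Curv2.genus k _ X ⟨p ≫ Spec.map τ.toCommRingCatIso.hom⟩ = @Curv2.genus k _ X ⟨p⟩ := by
  have hr : ∀ c : k, Coh.toGlobal (p ≫ Spec.map τ.toCommRingCatIso.hom) c = Coh.toGlobal p (τ c) := fun c => by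
    show (p ≫ Spec.map τ.toCommRingCatIso.hom).appTop ((Scheme.ΓSpecIso (CommRingCat.of k)).inv c) =
      p.appTop ((Scheme.ΓSpecIso (CommRingCat.of k)).inv (τ c))
    rw [Scheme.Hom.comp_appTop]
    show p.appTop ((Spec.map τ.toCommRingCatIso.hom).appTop ((Scheme.ΓSpecIso (CommRingCat.of k)).inv c)) = _
    exact congrArg _ (congr($(Scheme.ΓSpecIso_inv_naturality τ.toCommRingCatIso.hom) c)).symm
  refine congrArg Cardinal.toNat
    (@rank_eq_of_equiv_equiv k k (Coh.HH X (Coh.structureModule X) 1) (Coh.HH X (Coh.structureModule X) 1) _ _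
      (@Coh.moduleOver k _ X ⟨p ≫ Spec.map τ.toCommRingCatIso.hom⟩ _ 1) _ _ (@Coh.moduleOver k _ X ⟨p⟩ _ 1)
      τ (AddEquiv.refl _) τ.bijective ?_)
  intro c m
  show Coh.toGlobal (p ≫ Spec.map τ.toCommRingCatIso.hom) c • m = Coh.toGlobal p (τ c) • m
  rw [hr]

/-- An embedding of function fields over the base comes from a morphism of regular curves. -/
theorem exists_morphism_of_functionField {k : Type u} [Field k] {A B : Scheme.{u}} [IsIntegral A] [IsIntegral B]
    (a : A ⟶ Spec (CommRingCat.of k)) (b : B ⟶ Spec (CommRingCat.of k)) [IsProper a]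
    (hB : ∀ y : B, ValuationRing (B.presheaf.stalk y))
    (ψ : A.functionField ⟶ B.functionField) (hψ : ffC a ≫ ψ = ffC b) :
    ∃ (H : B ⟶ A) (e : H (genericPoint B) = genericPoint A), H ≫ a = b ∧
      A.presheaf.stalkSpecializes (specializes_of_eq e) ≫ H.stalkMap (genericPoint B) = ψ := by
  haveI : A.IsSeparated := ⟨by rw [← Limits.terminal.comp_from a]; infer_instance⟩
  have h₀ : (Spec.map ψ ≫ A.fromSpecStalk (genericPoint A)) ≫ a = B.fromSpecStalk _ ≫ b := by
    rw [Category.assoc, ← spec_ffC, ← Spec.map_comp, hψ, spec_ffC]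
  obtain ⟨W, hW, H, hsub, hH, hH'⟩ := H23.RatExtend.extend b a _ h₀ Set.univ
    fun p _ => H23.RatExtend.exists_lift b a _ h₀ p (hB p)
  haveI : IsIso W.ι := by
    have : Surjective W.ι := ⟨fun y => ⟨⟨y, hsub trivial⟩, rfl⟩⟩
    exact (isIso_iff_isOpenImmersion_and_surjective _).2 ⟨inferInstance, this⟩
  let G : B ⟶ A := inv W.ι ≫ H
  have hG : B.fromSpecStalk (genericPoint B) ≫ G = Spec.map ψ ≫ A.fromSpecStalk (genericPoint A) := by
    rw [← hH', ← Scheme.Opens.fromSpecStalkOfMem_ι W (genericPoint B) hW, Category.assoc,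
      IsIso.hom_inv_id_assoc]
  have e : G (genericPoint B) = genericPoint A := by
    haveI : Subsingleton ↥(Spec A.functionField) :=
      inferInstanceAs (Subsingleton (PrimeSpectrum A.functionField))
    have h1 := congr($hG (IsLocalRing.closedPoint B.functionField))
    simp only [Scheme.Hom.comp_apply] at h1
    erw [Scheme.fromSpecStalk_closedPoint] at h1
    refine h1.trans ?_
    rw [Subsingleton.elim ((Spec.map ψ) _) (IsLocalRing.closedPoint A.functionField)]
    exact Scheme.fromSpecStalk_closedPoint
  refine ⟨G, e, by rw [Category.assoc, hH, IsIso.inv_hom_id_assoc], Spec.map_injective ?_⟩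
  rw [← cancel_mono (A.fromSpecStalk (genericPoint A)), Spec.map_comp, Category.assoc,
    Scheme.SpecMap_stalkSpecializes_fromSpecStalk, Scheme.SpecMap_stalkMap_fromSpecStalk, hG]

variable (k : Type u) [Field k] [IsAlgClosed k]

theorem valuationRing_of_regular (Z : Scheme.{u}) [Z.Over (Spec (CommRingCat.of k))] [IsIntegral Z]
    [IsProper (Z ↘ Spec (CommRingCat.of k))] (hd : topologicalKrullDim Z = 1)
    (hr : ∀ z : Z, IsRegularLocalRing (Z.presheaf.stalk z)) (z : Z) : ValuationRing (Z.presheaf.stalk z) :=
  CurveLuroth.valuationRing_stalk (k := k) hd (fun z hz => by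
    haveI : Smooth (Z ↘ Spec (CommRingCat.of k)) :=
      CurveCohLib.RegularCurve.smooth_of_regular k fun x _ => hr x
    haveI := CurveFF.isDVR k Z hd hz
    infer_instance) z

/-- The separable case. -/
theorem genus_le_of_separable (X : Scheme.{u}) [X.Over (Spec (CommRingCat.of k))] [IsIntegral X]
    [IsProper (X ↘ Spec (CommRingCat.of k))] (hdimX : topologicalKrullDim X = 1)
    (hregX : ∀ x : X, IsRegularLocalRing (X.presheaf.stalk x))
    (Y : Scheme.{u}) [Y.Over (Spec (CommRingCat.of k))] [IsIntegral Y]
    [IsProper (Y ↘ Spec (CommRingCat.of k))] (hdimY : topologicalKrullDim Y = 1)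
    (hregY : ∀ y : Y, IsRegularLocalRing (Y.presheaf.stalk y))
    (f : X ⟶ Y) (hf : f ≫ (Y ↘ Spec (CommRingCat.of k)) = X ↘ Spec (CommRingCat.of k))
    (e : f (genericPoint X) = genericPoint Y)
    (hsep : letI := ((Y.presheaf.stalkSpecializes (specializes_of_eq e) ≫ f.stalkMap (genericPoint X)).hom).toAlgebra
      Algebra.IsSeparable Y.functionField X.functionField) :
    Curv2.genus k Y ≤ Curv2.genus k X := by
  haveI := CurveFinMap.isFinite_of_generic k hdimX hdimY f hf e
  have h := S11332.result k X hdimX hregX Y hdimY hregY f hf e hsep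
  rcases Nat.eq_zero_or_pos (Curv2.genus k Y) with h0 | h0
  · omega
  have hd : 0 < f.residueDegree (genericPoint X) := by
    refine Nat.pos_of_ne_zero fun h0' => ?_
    exact (residueDegree_pos f (genericPoint X)).ne' h0'
  have h1 : (1 : ℤ) ≤ f.residueDegree (genericPoint X) := by exact_mod_cast hd
  have h2 : (0 : ℤ) ≤ 2 * (Curv2.genus k Y : ℤ) - 2 := by omega
  have h3 := mul_le_mul_of_nonneg_right h1 h2
  omega

theorem isSeparable_comp {F L K : Type u} [Field F] [Field L] [Field K] [Algebra F L] [Algebra.IsSeparable F L]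
    (φ : L ≃+* K) : letI := (φ.toRingHom.comp (algebraMap F L)).toAlgebra; Algebra.IsSeparable F K := by
  letI := (φ.toRingHom.comp (algebraMap F L)).toAlgebra
  exact Algebra.IsSeparable.of_equiv_equiv (RingEquiv.refl F) φ (RingHom.ext fun x => rfl)

/-- The genus does not increase along a finite map of regular curves over an algebraically closed field. -/
theorem genus_le (X : Scheme.{u}) [X.Over (Spec (CommRingCat.of k))] [IsIntegral X]
    [IsProper (X ↘ Spec (CommRingCat.of k))] (hdimX : topologicalKrullDim X = 1)
    (hregX : ∀ x : X, IsRegularLocalRing (X.presheaf.stalk x))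
    (Y : Scheme.{u}) [Y.Over (Spec (CommRingCat.of k))] [IsIntegral Y]
    [IsProper (Y ↘ Spec (CommRingCat.of k))] (hdimY : topologicalKrullDim Y = 1)
    (hregY : ∀ y : Y, IsRegularLocalRing (Y.presheaf.stalk y))
    (f : X ⟶ Y) [IsFinite f] (hf : f ≫ (Y ↘ Spec (CommRingCat.of k)) = X ↘ Spec (CommRingCat.of k)) :
    Curv2.genus k Y ≤ Curv2.genus k X := by
  haveI : CompactSpace Y := QuasiCompact.compactSpace_of_compactSpace (Y ↘ Spec (CommRingCat.of k))
  have e := map_genericPoint_of_finite hdimX hdimY f
  letI := ((Y.presheaf.stalkSpecializes (specializes_of_eq e) ≫ f.stalkMap (genericPoint X)).hom).toAlgebra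
  letI : Algebra k X.functionField := CurveFF.ffAlg k X
  letI : Algebra k Y.functionField := CurveFF.ffAlg k Y
  let fX := X ↘ Spec (CommRingCat.of k)
  let fY := Y ↘ Spec (CommRingCat.of k)
  let u : Y.functionField ⟶ X.functionField :=
    Y.presheaf.stalkSpecializes (specializes_of_eq e) ≫ f.stalkMap (genericPoint X)
  have hu : CurveLuroth.ffC fY ≫ u = CurveLuroth.ffC fX := by
    apply Spec.map_injective
    simp only [u, Spec.map_comp, Category.assoc, CurveLuroth.spec_ffC]
    rw [Scheme.SpecMap_stalkSpecializes_fromSpecStalk_assoc, Scheme.SpecMap_stalkMap_fromSpecStalk_assoc]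
    exact congrArg _ hf
  haveI : IsScalarTower k Y.functionField X.functionField := IsScalarTower.of_algebraMap_eq fun c => by
    show Curv2.stalkMap k X (genericPoint X) c = u.hom (Curv2.stalkMap k Y (genericPoint Y) c)
    rw [← CurveFrob.ffC_apply X c, ← CurveFrob.ffC_apply Y c]
    exact congr($(hu.symm) c)
  haveI : FiniteDimensional Y.functionField X.functionField := finiteDimensional_functionField f e
  haveI : Smooth (X ↘ Spec (CommRingCat.of k)) :=
    CurveCohLib.RegularCurve.smooth_of_regular k fun x _ => hregX x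
  haveI := CurveFF.essFiniteType k X hdimX
  let L := separableClosure Y.functionField X.functionField
  haveI : IsScalarTower k L X.functionField :=
    IsScalarTower.of_algebraMap_eq fun x => rfl
  obtain ⟨τ, φ, hφ⟩ := CurveFrob.exists_frob_equiv (k := k) (K := X.functionField) (L := L)
    (CurveFF.trdeg_eq_one k X hdimX)
  let fY' := fY ≫ Spec.map τ.symm.toCommRingCatIso.hom
  let ψ' : Y.functionField →+* X.functionField := φ.toRingHom.comp (algebraMap Y.functionField L)
  have hψ : CurveLuroth.ffC fY' ≫ CommRingCat.ofHom ψ' = CurveLuroth.ffC fX := by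
    have h1 : CurveLuroth.ffC fY' = τ.symm.toCommRingCatIso.hom ≫ CurveLuroth.ffC fY := by
      apply Spec.map_injective
      simp only [fY', Spec.map_comp, Category.assoc, CurveLuroth.spec_ffC]
    rw [h1]
    ext c
    show φ (algebraMap Y.functionField L ((CurveLuroth.ffC fY).hom (τ.symm c))) = (CurveLuroth.ffC fX).hom c
    rw [CurveFrob.ffC_apply X c, CurveFrob.ffC_apply Y (τ.symm c)]
    have h2 := hφ (τ.symm c)
    rw [τ.apply_symm_apply] at h2
    rw [show Curv2.stalkMap k Y (genericPoint Y) (τ.symm c) = algebraMap k Y.functionField (τ.symm c) from rfl,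
      ← IsScalarTower.algebraMap_apply]
    exact h2
  haveI : IsProper fY := inferInstanceAs (IsProper (Y ↘ Spec (CommRingCat.of k)))
  haveI : IsProper fY' := inferInstance
  obtain ⟨H, eH, hH, hHψ⟩ := exists_morphism_of_functionField fY' fX (valuationRing_of_regular k X hdimX hregX)
    (CommRingCat.ofHom ψ') hψ
  have hsep : letI := ((Y.presheaf.stalkSpecializes (specializes_of_eq eH) ≫ H.stalkMap (genericPoint X)).hom).toAlgebra
      Algebra.IsSeparable Y.functionField X.functionField := by
    rw [hHψ]
    exact isSeparable_comp φ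
  calc Curv2.genus k Y = @Curv2.genus k _ Y ⟨fY'⟩ := (genus_twist fY τ.symm).symm
    _ ≤ Curv2.genus k X := by
      letI : Y.Over (Spec (CommRingCat.of k)) := ⟨fY'⟩
      haveI : IsProper (Y ↘ Spec (CommRingCat.of k)) := inferInstanceAs (IsProper fY')
      exact genus_le_of_separable k X hdimX hregX Y hdimY hregY H hH eH hsep

end Groth.Agent.CurveGenusMono
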