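import Groth.Agent.CurveGenusMono.Basic
import Groth.Agent.CurveModel.Basic
import Groth.Agent.S1585
import Groth.Agent.S1602
import Groth.Agent.CurveEmbed.Points

/-!
# The genus does not increase along finite maps from singular curves
-/

set_option autoImplicit false
set_option linter.style.haveILetI false
set_option linter.unusedSectionVars false
set_option backward.isDefEq.respectTransparency false
set_option backward.isDefEq.respectTransparency.types false

universe u

open CategoryTheory CategoryTheory.Limits AlgebraicGeometry TopologicalSpace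

noncomputable section

namespace Groth.Agent.CurveGenusMono

open Groth.Agent

variable (k : Type u) [Field k]

/-- The normalization of a proper curve. -/
theorem exists_regular_birational (X : Scheme.{u}) [X.Over (Spec (CommRingCat.of k))] [IsIntegral X]
    [IsProper (X ↘ Spec (CommRingCat.of k))] (hdim : topologicalKrullDim X = 1) :
    ∃ (N : Scheme.{u}) (ν : N ⟶ X), IsIntegral N ∧ IsFinite ν ∧ topologicalKrullDim N = 1 ∧
      (∀ y : N, IsRegularLocalRing (N.presheaf.stalk y)) ∧
      ∃ V : X.Opens, Dense (V : Set X) ∧ Dense ((ν ⁻¹ᵁ V : N.Opens) : Set N) ∧ IsIso (ν ∣_ V) := by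
  haveI := CurveCohLib.isNoetherian_of_proper (k := k) (X := X)
  haveI : QuasiCompact (X.fromSpecStalk (genericPoint X)) := inferInstance
  haveI : QuasiSeparated (X.fromSpecStalk (genericPoint X)) := inferInstance
  obtain ⟨hfin, -, ⟨V, hV, hiso⟩, hint, hnor⟩ := S1585.result k X
  let N := Curv2.normalization X
  let ν : N ⟶ X := Curv2.normalizationι X
  haveI := hfin
  haveI := hiso
  let W : N.Opens := ν ⁻¹ᵁ V
  haveI : Nonempty V := hV.to_subtype
  haveI : Nonempty W := ⟨(Scheme.homeoOfIso (asIso (ν ∣_ V))).symm (Classical.arbitrary V)⟩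
  letI : N.Over (Spec (CommRingCat.of k)) := ⟨ν ≫ (X ↘ Spec (CommRingCat.of k))⟩
  haveI : IsProper (N ↘ Spec (CommRingCat.of k)) := inferInstanceAs (IsProper (ν ≫ _))
  haveI : IsIntegral (V : Scheme.{u}) := inferInstance
  haveI : IsIntegral (W : Scheme.{u}) := inferInstance
  have hdW : Dense (W : Set N) := W.isOpen.dense (nonempty_subtype.1 ‹Nonempty W›)
  have hdV : Dense (V : Set X) := V.isOpen.dense hV
  haveI : IsDominant W.ι := ⟨by rw [DenseRange, Scheme.Opens.range_ι]; exact hdW⟩
  haveI : IsDominant V.ι := ⟨by rw [DenseRange, Scheme.Opens.range_ι]; exact hdV⟩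
  have hd : topologicalKrullDim N = 1 := by
    rw [CurveModel.topologicalKrullDim_eq (N ↘ Spec (CommRingCat.of k)) W.ι, ← hdim,
      CurveModel.topologicalKrullDim_eq (X ↘ Spec (CommRingCat.of k)) V.ι]
    exact (Scheme.homeoOfIso (asIso (ν ∣_ V))).isHomeomorph.topologicalKrullDim_eq
  refine ⟨N, ν, hint, hfin, hd, fun y => ?_, V, hdV, hdW, hiso⟩
  haveI := CurveCohLib.isNoetherian_of_proper (k := k) (X := N)
  by_cases hy : IsClosed ({y} : Set N)
  · haveI := CurveEmbed.isDVR_of_normal k hd hy (hnor y).2
    infer_instance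
  · rw [CurveCohLib.eq_genericPoint_of_not_isClosed hd hy]
    show IsRegularLocalRing N.functionField
    infer_instance

/-- A finite map from a possibly singular curve to a regular curve does not increase the genus. -/
theorem genus_le_of_integral [IsAlgClosed k] (X : Scheme.{u}) [X.Over (Spec (CommRingCat.of k))] [IsIntegral X]
    [IsProper (X ↘ Spec (CommRingCat.of k))] (hdimX : topologicalKrullDim X = 1)
    (Y : Scheme.{u}) [Y.Over (Spec (CommRingCat.of k))] [IsIntegral Y]
    [IsProper (Y ↘ Spec (CommRingCat.of k))] (hdimY : topologicalKrullDim Y = 1)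
    (hregY : ∀ y : Y, IsRegularLocalRing (Y.presheaf.stalk y))
    (f : X ⟶ Y) [IsFinite f] (hf : f ≫ (Y ↘ Spec (CommRingCat.of k)) = X ↘ Spec (CommRingCat.of k)) :
    Curv2.genus k Y ≤ Curv2.genus k X := by
  obtain ⟨N, ν, hint, hfin, hd, hreg, V, hdV, hdW, hiso⟩ := exists_regular_birational k X hdimX
  haveI := hint
  haveI := hfin
  letI : N.Over (Spec (CommRingCat.of k)) := ⟨ν ≫ (X ↘ Spec (CommRingCat.of k))⟩
  haveI : IsProper (N ↘ Spec (CommRingCat.of k)) := inferInstanceAs (IsProper (ν ≫ _))
  refine (genus_le k N hd hreg Y hdimY hregY (ν ≫ f) ?_).trans (S1602.result k X N hdimX.le ν rfl V hdV hdW hiso)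
  rw [Category.assoc, hf]
  rfl

end Groth.Agent.CurveGenusMono
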